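import Mathlib
import Groth.Agent.Lib.Helper5.OmegaDim.A
import Groth.Agent.Lib.Helper5.SmVar.A
import Groth.Agent.Lib.Helper2.DimFG

set_option autoImplicit false
universe u

open TensorProduct IsLocalRing KaehlerDifferential

namespace Groth.Agent.H5.HypSing

/-- Nakayama: a finite module over a local ring is generated by `dim_κ (κ ⊗ N)` elements. -/
theorem exists_finset_span_eq_top (R : Type*) [CommRing R] [IsLocalRing R] (N : Type*)
    [AddCommGroup N] [Module R N] [Module.Finite R N] :
    ∃ s : Finset N, s.card ≤ Module.finrank (ResidueField R) (ResidueField R ⊗[R] N) ∧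
      Submodule.span R (s : Set N) = ⊤ := by
  classical
  set μ := Module.finrank (ResidueField R) (ResidueField R ⊗[R] N)
  let b := Module.finBasis (ResidueField R) (ResidueField R ⊗[R] N)
  have hsurj : Function.Surjective (TensorProduct.mk R (ResidueField R) N 1) :=
    TensorProduct.mk_surjective R N (ResidueField R) Ideal.Quotient.mk_surjective
  choose f hf using fun i => hsurj (b i)
  have hspan := IsLocalRing.span_eq_top_of_tmul_eq_basis f b hf
  refine ⟨Finset.univ.image f, ?_, ?_⟩
  · refine Finset.card_image_le.trans ?_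
    simp [μ]
  · rw [Finset.coe_image, Finset.coe_univ, Set.image_univ]
    exact hspan

section
variable {A : Type*} [CommRing A] (M : Type*) [AddCommGroup M] [Module A M] [Module.Finite A M]

/-- the localization of a finite module at a prime is generated by `dim κ(p) ⊗ M` elements. -/
theorem exists_finset_span_localizedModule (p : Ideal A) [p.IsPrime] :
    ∃ s : Finset (LocalizedModule p.primeCompl M),
      s.card ≤ Module.finrank p.ResidueField (p.ResidueField ⊗[A] M) ∧
      Submodule.span (Localization.AtPrime p) (s : Set (LocalizedModule p.primeCompl M)) = ⊤ := by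
  obtain ⟨s, hs, hspan⟩ := exists_finset_span_eq_top (Localization.AtPrime p)
    (LocalizedModule p.primeCompl M)
  refine ⟨s, hs.trans (le_of_eq ?_), hspan⟩
  let e1 : LocalizedModule p.primeCompl M ≃ₗ[Localization.AtPrime p]
      Localization.AtPrime p ⊗[A] M := LocalizedModule.equivTensorProduct p.primeCompl M
  let e2 : p.ResidueField ⊗[Localization.AtPrime p] (LocalizedModule p.primeCompl M) ≃ₗ[p.ResidueField]
      p.ResidueField ⊗[Localization.AtPrime p] (Localization.AtPrime p ⊗[A] M) :=
    AlgebraTensorModule.congr (LinearEquiv.refl _ _) e1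
  let e3 : p.ResidueField ⊗[Localization.AtPrime p] (Localization.AtPrime p ⊗[A] M) ≃ₗ[p.ResidueField]
      p.ResidueField ⊗[A] M := AlgebraTensorModule.cancelBaseChange A _ _ _ M
  exact (e2.trans e3).finrank_eq

end


section geom
attribute [local instance] Algebra.TensorProduct.rightAlgebra
variable (K : Type u) [Field K] (A : Type u) [CommRing A] [Algebra K A]

theorem isIntegral_right :
    Algebra.IsIntegral A (TensorProduct K (AlgebraicClosure K) A) := by
  refine ⟨fun z => ?_⟩
  induction z using TensorProduct.induction_on with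
  | zero => exact isIntegral_zero
  | add x y hx hy => exact hx.add hy
  | tmul x a =>
    have h1 : IsIntegral A ((x ⊗ₜ[K] (1 : A)) : TensorProduct K (AlgebraicClosure K) A) := by
      have hx : IsIntegral K x := Algebra.IsIntegral.isIntegral x
      exact hx.map_of_comp_eq (algebraMap K A)
        (Algebra.TensorProduct.includeLeft (R := K) (S := K) (A := AlgebraicClosure K) (B := A)).toRingHom
        (by ext r; simp [Algebra.TensorProduct.right_algebraMap_apply, Algebra.algebraMap_eq_smul_one,
              TensorProduct.smul_tmul])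
    have h2 : x ⊗ₜ[K] a = a • ((x ⊗ₜ[K] (1 : A)) : TensorProduct K (AlgebraicClosure K) A) := by
      rw [Algebra.smul_def, Algebra.TensorProduct.right_algebraMap_apply,
        Algebra.TensorProduct.tmul_mul_tmul]
      simp
    rw [h2]
    exact h1.smul a

theorem injective_right :
    Function.Injective (algebraMap A (TensorProduct K (AlgebraicClosure K) A)) :=
  Algebra.TensorProduct.includeRight_injective (RingHom.injective _)

theorem dim_eq : ringKrullDim (TensorProduct K (AlgebraicClosure K) A) = ringKrullDim A := by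
  haveI := isIntegral_right K A
  exact Groth.Agent.H2.DimFG.ringKrullDim_eq_of_integral_injective A _ (injective_right K A)

end geom


section geom2
attribute [local instance] Algebra.TensorProduct.rightAlgebra
variable (K : Type u) [Field K] (A : Type u) [CommRing A] [Algebra K A]

local notation "Kb" => AlgebraicClosure K
local notation "Ab" => TensorProduct K (AlgebraicClosure K) A

theorem finrank_fibre_baseChange (m : Ideal A) [m.IsPrime] (mb : Ideal Ab) [mb.IsPrime]
    [mb.LiesOver m] :
    Module.finrank mb.ResidueField (mb.ResidueField ⊗[Ab] Ω[Ab⁄Kb]) =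
      Module.finrank m.ResidueField (m.ResidueField ⊗[A] Ω[A⁄K]) := by
  letI := Localization.AtPrime.algebraOfLiesOver m mb
  let e0 : Ab ⊗[A] Ω[A⁄K] ≃ₗ[Ab] Ω[Ab⁄Kb] := KaehlerDifferential.tensorKaehlerEquiv K Kb A Ab
  let e1 : mb.ResidueField ⊗[Ab] (Ab ⊗[A] Ω[A⁄K]) ≃ₗ[mb.ResidueField]
      mb.ResidueField ⊗[Ab] Ω[Ab⁄Kb] := AlgebraTensorModule.congr (LinearEquiv.refl _ _) e0
  let e2 : mb.ResidueField ⊗[Ab] (Ab ⊗[A] Ω[A⁄K]) ≃ₗ[mb.ResidueField]
      mb.ResidueField ⊗[A] Ω[A⁄K] := AlgebraTensorModule.cancelBaseChange A Ab _ _ _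
  let e3 : mb.ResidueField ⊗[m.ResidueField] (m.ResidueField ⊗[A] Ω[A⁄K]) ≃ₗ[mb.ResidueField]
      mb.ResidueField ⊗[A] Ω[A⁄K] := AlgebraTensorModule.cancelBaseChange A m.ResidueField _ _ _
  rw [← e1.finrank_eq, e2.finrank_eq, ← e3.finrank_eq, Module.finrank_baseChange]

end geom2


section mainsec
attribute [local instance] Algebra.TensorProduct.rightAlgebra

theorem main {K : Type u} [Field K] {A : Type u} [CommRing A] [Algebra K A] [Algebra.FiniteType K A]
    (hhyp : ∀ (q : Ideal (TensorProduct K (AlgebraicClosure K) A)) [q.IsPrime],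
      (Module.finrank (IsLocalRing.ResidueField (Localization.AtPrime q))
          (IsLocalRing.CotangentSpace (Localization.AtPrime q)) : ℕ∞) ≤ q.height + 1)
    (d : ℕ) (hd : ringKrullDim A = d) (p : Ideal A) [p.IsPrime] :
    ∃ s : Finset (LocalizedModule p.primeCompl (KaehlerDifferential K A)),
      s.card ≤ d + 1 ∧ Submodule.span (Localization.AtPrime p)
        (s : Set (LocalizedModule p.primeCompl (KaehlerDifferential K A))) = ⊤ := by
  haveI : Module.Finite A (Ω[A⁄K]) := inferInstance
  obtain ⟨s, hs, hspan⟩ := exists_finset_span_localizedModule (Ω[A⁄K]) p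
  refine ⟨s, hs.trans ?_, hspan⟩
  obtain ⟨m, hm, hpm⟩ := Ideal.exists_le_maximal p (Ideal.IsPrime.ne_top inferInstance)
  haveI := hm
  have h1 := Groth.Agent.H5.OmegaDim.finrank_fiber_le_of_le (Ω[A⁄K]) m p hpm
  refine h1.trans ?_
  haveI := isIntegral_right K A
  have hker : RingHom.ker (algebraMap A (TensorProduct K (AlgebraicClosure K) A)) ≤ m := by
    rw [(RingHom.injective_iff_ker_eq_bot _).mp (injective_right K A)]
    exact bot_le
  obtain ⟨mb, hmbmax, hmb⟩ := Ideal.exists_ideal_over_maximal_of_isIntegral m hker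
  haveI := hmbmax
  haveI : mb.LiesOver m := ⟨hmb.symm⟩
  have h2 := finrank_fibre_baseChange K A m mb
  have h3 := Groth.Agent.H5.SmVar.finrank_fibre_eq (AlgebraicClosure K)
    (TensorProduct K (AlgebraicClosure K) A) mb
  have h4 := hhyp mb
  have h5 : (mb.height : WithBot ℕ∞) ≤ d := by
    rw [← hd, ← dim_eq K A]
    exact Ideal.height_le_ringKrullDim_of_isPrime
  have h5' : mb.height ≤ (d : ℕ∞) := by exact_mod_cast h5
  rw [← h2, h3]
  have h6 : (Module.finrank (IsLocalRing.ResidueField (Localization.AtPrime mb))
      (IsLocalRing.CotangentSpace (Localization.AtPrime mb)) : ℕ∞) ≤ ((d + 1 : ℕ) : ℕ∞) := by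
    refine h4.trans ?_
    push_cast
    exact add_le_add_left h5' 1
  exact_mod_cast h6

end mainsec

end Groth.Agent.H5.HypSing
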